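import Cfsg.Agent.H334.F43.Act

/-!
# The kernel of `f : P₁' → Sp₆(3)` (S2465, F₄(3), block E; helper267)

* `mm_one` : `m ∈ MM`, `fm m = 1` → `m = 1`;
* `exists_qm` : `PP = QQ MM`;
* `ker_ff` : the kernel of `ff` is `QQ`.
-/

set_option autoImplicit false

namespace Cfsg.Agent.H267.F43

open Cfsg.Lie Cfsg.Agent.ChevalleyStructure.E6Min.Tables Cfsg.Agent.ChevalleyStructure.E6Min.Basic
open Cfsg.Agent.H952.F4 Cfsg.Agent.H633.Ore Cfsg.Agent.H700.F43
open Cfsg.Agent.ChevalleyStructure.E6Min.Forms (T3 T3_basis rel th tn tsN_ne_zero)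
open Matrix

/-- basis vectors -/
abbrev bv (x : I27) : I27 → ZMod 3 := Cfsg.Agent.ChevalleyStructure.E6Min.Forms.e (ZMod 3) x

theorem mulVec_bv (g : Gm) (x y : I27) : (mt g *ᵥ bv x) y = mt g y x := by
  show (mt g *ᵥ Pi.single x 1) y = _
  rw [Matrix.mulVec_single_one]
  rfl

/-- the cubic form is invariant -/
theorem T3_mt (g : Gm) (x y z : I27 → ZMod 3) : T3 (mt g *ᵥ x) (mt g *ᵥ y) (mt g *ᵥ z) = T3 x y z :=
  Cfsg.Agent.H952.F4.Inv.T3_inv isJ_rho g x y z

/-! ### commuting with `x_{-θ}` -/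

theorem chk_comm : (rC.all fun r => chkE [(r, true), (0, true)] [(0, true), (r, true)]) = true := by decide +kernel

theorem comm_xp {r : ℕ} (hr : r ∈ rC) : xp r * xp 0 = xp 0 * xp r := by
  have h := word_eq (List.all_eq_true.1 chk_comm r hr)
  rwa [wd_cons, wd_single, wd_cons, wd_single] at h

theorem comm_MM {m : Gm} (hm : m ∈ MM) : m * xp 0 = xp 0 * m := by
  refine word_ind (P := fun m => m * xp 0 = xp 0 * m) rC_lt ?_ ?_ hm
  · rw [one_mul, mul_one]
  · intro r hr g _ ih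
    rw [mul_assoc, ih, ← mul_assoc, comm_xp hr, mul_assoc]

/-- the test: `x_{-θ}(1)` maps the basis vector `i` (weight 2) to `i ± j` -/
theorem chk_low : ∀ j < 27, w27.getD j 0 = 0 → ∃ i < 27, w27.getD i 0 = 2 ∧ ∃ s : ZMod 3, s ≠ 0 ∧
    ∀ k < 27, dg (nt (evl (exw [(0, true)]) idR) k) i = (if k = i then 1 else 0) + s * (if k = j then 1 else 0) := by
  decide +kernel

theorem exists_low {y : I27} (hy : hw y = 0) : ∃ x : I27, hw x = 2 ∧ ∃ s : ZMod 3, s ≠ 0 ∧
    mt (xp 0) *ᵥ bv x = bv x + s • bv y := by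
  obtain ⟨i, hi, h2, s, hs, h⟩ := chk_low (code y) (code_lt y) hy
  refine ⟨dec i, by rw [hw_dec hi, h2], s, hs, ?_⟩
  funext z
  rw [mulVec_bv, mt_xp (by norm_num), code_dec hi, h _ (code_lt z), Pi.add_apply, Pi.smul_apply, smul_eq_mul]
  have e1 : bv (dec i) z = if code z = i then 1 else 0 := by
    show (Pi.single (dec i) 1 : I27 → ZMod 3) z = _
    rw [Pi.single_apply]
    congr 1
    rw [← code_eq_iff, code_dec hi]
  have e2 : bv y z = if code z = code y then 1 else 0 := by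
    show (Pi.single y 1 : I27 → ZMod 3) z = _
    rw [Pi.single_apply]
    congr 1
    rw [code_eq_iff]
  rw [e1, e2]

/-! ### the weight one vectors -/

theorem chk_mid : ∀ j < 27, w27.getD j 0 = 1 → ∃ u < 27, ∃ v < 27, w27.getD u 0 = 2 ∧ w27.getD v 0 = 0 ∧
    relN u v = 2 ∧ thN u v = j := by
  decide +kernel

theorem exists_mid {y : I27} (hy : hw y = 1) : ∃ u v : I27, hw u = 2 ∧ hw v = 0 ∧ rel u v = 2 ∧ th u v = y := by
  obtain ⟨u, hu, v, hv, h1, h2, h3, h4⟩ := chk_mid (code y) (code_lt y) hy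
  refine ⟨dec u, dec v, by rw [hw_dec hu, h1], by rw [hw_dec hv, h2], ?_, ?_⟩
  · unfold rel
    rw [code_dec hu, code_dec hv, h3]
  · unfold th
    rw [code_dec hu, code_dec hv, h4, dec_code]

/-- **(1)** -/
theorem mm_one {m : Gm} (hm : m ∈ MM) (hf : fm m = 1) : m = 1 := by
  have hd := dia_MM hm
  -- weight two
  have h2 : ∀ x : I27, hw x = 2 → mt m *ᵥ bv x = bv x := by
    intro x hx
    funext y
    rw [mulVec_bv]
    show _ = (Pi.single x 1 : I27 → ZMod 3) y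
    rw [Pi.single_apply]
    by_cases hy : hw y = 2
    · obtain ⟨i, rfl⟩ := exists_cI x hx
      obtain ⟨j, rfl⟩ := exists_cI y hy
      have h := congrFun (congrFun hf j) i
      change eN j * eN i * mt m (cI j) (cI i) = (1 : Matrix (Fin 3 ⊕ Fin 3) (Fin 3 ⊕ Fin 3) (ZMod 3)) j i at h
      have h3 : mt m (cI j) (cI i) = eN j * eN i * (1 : Matrix (Fin 3 ⊕ Fin 3) (Fin 3 ⊕ Fin 3) (ZMod 3)) j i := by
        rw [← h]
        linear_combination (-(eN i * eN i * mt m (cI j) (cI i))) * eN_sq j - (mt m (cI j) (cI i)) * eN_sq i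
      rw [h3, Matrix.one_apply]
      by_cases hij : j = i
      · subst hij
        rw [if_pos rfl, if_pos rfl, mul_one, eN_sq]
      · rw [if_neg hij, if_neg (fun e => hij (cI_inj e)), mul_zero]
    · rw [hd y x (by rw [hx]; exact hy), if_neg]
      rintro rfl
      exact hy hx
  -- weight zero
  have h0 : ∀ y : I27, hw y = 0 → mt m *ᵥ bv y = bv y := by
    intro y hy
    obtain ⟨x, hx, s, hs, h⟩ := exists_low hy
    have h3 : mt m *ᵥ (mt (xp 0) *ᵥ bv x) = mt (xp 0) *ᵥ bv x := by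
      rw [Matrix.mulVec_mulVec, ← mt_mul, comm_MM hm, mt_mul, ← Matrix.mulVec_mulVec, h2 x hx]
    rw [h, Matrix.mulVec_add, h2 x hx, Matrix.mulVec_smul] at h3
    exact smul_right_injective _ hs (add_left_cancel h3)
  -- weight one
  have h1 : ∀ x : I27, hw x = 1 → mt m *ᵥ bv x = bv x := by
    intro x hx
    funext y
    by_cases hy : hw y = 1
    · obtain ⟨u, v, hu, hv, hr, ht⟩ := exists_mid hy
      have e1 := T3_mt m (bv u) (bv x) (bv v)
      rw [h2 u hu, h0 v hv, T3_basis hr, T3_basis hr, ht] at e1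
      exact mul_left_cancel₀ (tsN_ne_zero _) e1
    · rw [mulVec_bv, hd y x (by rw [hx]; exact hy)]
      show _ = (Pi.single x 1 : I27 → ZMod 3) y
      rw [Pi.single_apply, if_neg]
      rintro rfl
      exact hy hx
  apply mt_inj
  rw [mt_one]
  ext y x
  rw [← mulVec_bv, Matrix.one_apply]
  have h : mt m *ᵥ bv x = bv x := by
    have hle := hw_le x
    rcases Nat.lt_or_ge 1 (hw x) with h3 | h3
    · exact h2 x (by omega)
    · rcases Nat.lt_or_ge 0 (hw x) with h4 | h4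
      · exact h1 x (by omega)
      · exact h0 x (by omega)
  rw [h]
  exact Pi.single_apply x 1 y

/-- **(2)** -/
theorem exists_qm_of (conj : ∀ r ∈ rC, ∀ v ∈ QQ, xp r * v * (xp r)⁻¹ ∈ QQ) {g : Gm} (hg : g ∈ PP) :
    ∃ q ∈ QQ, ∃ m ∈ MM, g = q * m := by
  refine word_ind (P := fun g => ∃ q ∈ QQ, ∃ m ∈ MM, g = q * m) all_lt ?_ ?_ hg
  · exact ⟨1, one_mem _, 1, one_mem _, (one_mul 1).symm⟩
  · rintro r hr _ _ ⟨q, hq, m, hm, rfl⟩
    rcases List.mem_append.1 hr with h | h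
    · exact ⟨xp r * q, mul_mem (xp_mem h) hq, m, hm, (mul_assoc _ _ _).symm⟩
    · refine ⟨_, conj r h q hq, xp r * m, mul_mem (xp_mem h) hm, ?_⟩
      rw [mul_assoc (xp r * q), inv_mul_cancel_left, mul_assoc]

/-- **(3)** -/
theorem ker_ff_of (conj : ∀ r ∈ rC, ∀ v ∈ QQ, xp r * v * (xp r)⁻¹ ∈ QQ) (g : ↥PP) : ff g = 1 ↔ (g : Gm) ∈ QQ := by
  constructor
  · intro h
    obtain ⟨q, hq, m, hm, he⟩ := exists_qm_of conj g.2
    have h1 : fm (g : Gm) = 1 := congrArg Subtype.val h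
    rw [he, fm_mul (tri_PP (MM_le hm)), fm_QQ hq, Matrix.one_mul] at h1
    rw [he, mm_one hm h1, mul_one]
    exact hq
  · intro h
    exact Subtype.ext (fm_QQ h)

theorem exists_qm {g : Gm} (hg : g ∈ PP) : ∃ q ∈ QQ, ∃ m ∈ MM, g = q * m :=
  exists_qm_of (fun _ hr _ hv => Cfsg.Agent.H334.F43.conj_mem hr hv) hg

/-- the kernel of `ff` is `QQ` -/
theorem ker_ff (g : ↥PP) : ff g = 1 ↔ (g : Gm) ∈ QQ :=
  ker_ff_of (fun _ hr _ hv => Cfsg.Agent.H334.F43.conj_mem hr hv) g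

end Cfsg.Agent.H267.F43
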